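import Cfsg.Prelude.Def_LinearParabolics
import Mathlib.GroupTheory.GroupAction.Quotient
import Mathlib.Data.Complex.Basic

/-!
# Inner products of two permutation characters
-/

set_option autoImplicit false

namespace Cfsg.Agent.Unipotent

open MulAction

variable {G : Type*} [Group G] [Fintype G]

theorem sum_fixedPoint_mul (P Q : Subgroup G) :
    ∑ g : G, Cfsg.fixedPointCharacter P g * Cfsg.fixedPointCharacter Q g =
      (Nat.card (orbitRel.Quotient G ((G ⧸ P) × (G ⧸ Q))) : ℂ) * (Nat.card G : ℂ) := by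
  classical
  have h := sum_card_fixedBy_eq_card_orbits_mul_card_group G ((G ⧸ P) × (G ⧸ Q))
  rw [Nat.card_eq_fintype_card, Nat.card_eq_fintype_card, ← Nat.cast_mul, ← h, Nat.cast_sum]
  refine Finset.sum_congr rfl fun g _ => ?_
  simp only [Cfsg.fixedPointCharacter, ← Nat.cast_mul, Nat.cast_inj, ← Nat.card_prod,
    ← Nat.card_eq_fintype_card]
  refine Nat.card_congr ⟨fun x => ⟨(x.1.1, x.2.1), Prod.ext x.1.2 x.2.2⟩,
    fun x => (⟨x.1.1, congrArg Prod.fst x.2⟩, ⟨x.1.2, congrArg Prod.snd x.2⟩), fun _ => rfl, fun _ => rfl⟩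

omit [Fintype G] in
theorem card_orbits_eq (P Q : Subgroup G) {W T : Type*} (w : W → G) (f : W → T)
    (hcover : ∀ g : G, ∃ p ∈ P, ∃ r ∈ Q, ∃ a, g = p * w a * r)
    (hsame : ∀ a b, f a = f b → ∃ p ∈ P, ∃ r ∈ Q, w b = p * w a * r)
    (hinv : ∀ a b, (∃ p ∈ P, ∃ r ∈ Q, w b = p * w a * r) → f a = f b) :
    Nat.card (orbitRel.Quotient G ((G ⧸ P) × (G ⧸ Q))) = Nat.card (Set.range f) := by
  let o : G → orbitRel.Quotient G ((G ⧸ P) × (G ⧸ Q)) := fun g => Quotient.mk'' (((1 : G) : G ⧸ P), ((g : G) : G ⧸ Q))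
  have ho : ∀ g h : G, o g = o h ↔ ∃ p ∈ P, ∃ r ∈ Q, h = p * g * r := by
    intro g h
    constructor
    · intro e
      obtain ⟨x, hx⟩ := Quotient.eq''.1 e.symm
      simp only [Prod.ext_iff, Prod.smul_mk, Quotient.smul_coe, smul_eq_mul, mul_one] at hx
      have h1 : x ∈ P := by
        have := QuotientGroup.eq.1 hx.1
        simpa using this
      refine ⟨x, h1, g⁻¹ * (x⁻¹ * h), ?_, by group⟩
      have := QuotientGroup.eq.1 hx.2
      simpa [mul_assoc] using this
    · rintro ⟨p, hp, r, hr, rfl⟩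
      refine (Quotient.eq''.2 (orbitRel_apply.2 (mem_orbit_iff.2 ⟨p, ?_⟩))).symm
      simp only [Prod.smul_mk, Quotient.smul_coe, smul_eq_mul, mul_one]
      refine Prod.ext (QuotientGroup.eq.2 (by simpa using hp)) (QuotientGroup.eq.2 ?_)
      simpa [mul_assoc] using hr
  have hsurj : ∀ z, ∃ g, o g = z := by
    intro z
    induction z using Quotient.inductionOn' with
    | h x =>
      obtain ⟨a, b⟩ := x
      induction a using QuotientGroup.induction_on with | H a =>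
      induction b using QuotientGroup.induction_on with | H b =>
      refine ⟨a⁻¹ * b, Quotient.eq''.2 (orbitRel_apply.2 (mem_orbit_iff.2 ⟨a⁻¹, ?_⟩))⟩
      simp [Prod.smul_mk]
  have hfo : ∀ a b, f a = f b ↔ o (w a) = o (w b) := fun a b =>
    ⟨fun e => (ho _ _).2 (hsame a b e), fun e => hinv a b ((ho _ _).1 e)⟩
  refine (Nat.card_eq_of_bijective (fun t : Set.range f => o (w t.2.choose)) ⟨?_, ?_⟩).symm
  · intro s t e
    apply Subtype.ext
    rw [← s.2.choose_spec, ← t.2.choose_spec]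
    exact (hfo _ _).2 e
  · intro z
    obtain ⟨g, rfl⟩ := hsurj z
    obtain ⟨p, hp, r, hr, a, rfl⟩ := hcover g
    refine ⟨⟨f a, a, rfl⟩, ?_⟩
    have h1 : o (w (Exists.choose (⟨a, rfl⟩ : ∃ y, f y = f a))) = o (w a) :=
      (hfo _ _).1 (Exists.choose_spec (⟨a, rfl⟩ : ∃ y, f y = f a))
    exact h1.trans ((ho _ _).2 ⟨p, hp, r, hr, rfl⟩)

/-- The inner product of two permutation characters counts the classes of representatives. -/
theorem inner_fixedPoint (P Q : Subgroup G) {W T : Type*} (w : W → G) (f : W → T)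
    (hcover : ∀ g : G, ∃ p ∈ P, ∃ r ∈ Q, ∃ a, g = p * w a * r)
    (hsame : ∀ a b, f a = f b → ∃ p ∈ P, ∃ r ∈ Q, w b = p * w a * r)
    (hinv : ∀ a b, (∃ p ∈ P, ∃ r ∈ Q, w b = p * w a * r) → f a = f b) :
    (Nat.card G : ℂ)⁻¹ * ∑ g : G, Cfsg.fixedPointCharacter P g * Cfsg.fixedPointCharacter Q g =
      (Nat.card (Set.range f) : ℂ) := by
  rw [sum_fixedPoint_mul, card_orbits_eq P Q w f hcover hsame hinv]
  field_simp [show (Nat.card G : ℂ) ≠ 0 from Nat.cast_ne_zero.2 Nat.card_pos.ne']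

end Cfsg.Agent.Unipotent
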