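import Mathlib.LinearAlgebra.Vandermonde
import Mathlib.RingTheory.MvPowerSeries.NoZeroDivisors
import Mathlib.Data.Set.Card

/-!
# Alternating sums of numbers of matrices with given margins

`sols S e` is the set of natural-number matrices supported on the cells `S` whose row and column sums are the
two halves of `e`.  Cauchy's determinant identity shows that the alternating sum of the number of matrices with
margins `(L - κ, L' - κ')` is a Kronecker delta for strictly increasing `L`, `L'`.
-/

set_option autoImplicit false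

namespace Cfsg.Agent.Unipotent

open Finset

variable {n : ℕ}

/-- The exponent of the cell `(i, j)`. -/
noncomputable def cellExp (c : Fin n × Fin n) : (Fin n ⊕ Fin n) →₀ ℕ :=
  Finsupp.single (Sum.inl c.1) 1 + Finsupp.single (Sum.inr c.2) 1

/-- Matrices supported on `S` with margins `e`. -/
def sols (S : Finset (Fin n × Fin n)) (e : (Fin n ⊕ Fin n) →₀ ℕ) : Set (Fin n × Fin n → ℕ) :=
  {M | (∀ c ∉ S, M c = 0) ∧ ∑ c, M c • cellExp c = e}

theorem margins_inl (M : Fin n × Fin n → ℕ) (a : Fin n) :
    (∑ c, M c • cellExp c) (Sum.inl a) = ∑ b, M (a, b) := by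
  simp [cellExp, Finsupp.finsetSum_apply, Finsupp.single_apply, Fintype.sum_prod_type]

theorem margins_inr (M : Fin n × Fin n → ℕ) (b : Fin n) :
    (∑ c, M c • cellExp c) (Sum.inr b) = ∑ a, M (a, b) := by
  simp [cellExp, Finsupp.finsetSum_apply, Finsupp.single_apply, Fintype.sum_prod_type]

theorem margins_eq_iff (M : Fin n × Fin n → ℕ) (e : (Fin n ⊕ Fin n) →₀ ℕ) :
    ∑ c, M c • cellExp c = e ↔
      (∀ a, ∑ b, M (a, b) = e (Sum.inl a)) ∧ ∀ b, ∑ a, M (a, b) = e (Sum.inr b) := by
  constructor
  · rintro rfl; exact ⟨fun a => (margins_inl M a).symm, fun b => (margins_inr M b).symm⟩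
  · rintro ⟨h1, h2⟩
    ext (a | b)
    · rw [margins_inl, h1]
    · rw [margins_inr, h2]

theorem sols_finite (S : Finset (Fin n × Fin n)) (e : (Fin n ⊕ Fin n) →₀ ℕ) : (sols S e).Finite := by
  refine Set.Finite.subset (Set.Finite.pi' fun c : Fin n × Fin n => Set.finite_Iic (e (Sum.inl c.1))) ?_
  intro M hM c
  rw [Set.mem_Iic, ← ((margins_eq_iff M e).1 hM.2).1 c.1]
  exact Finset.single_le_sum (f := fun b => M (c.1, b)) (fun b _ => Nat.zero_le _) (mem_univ c.2)

/-- The counting series of matrices supported on `S`. -/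
noncomputable def ser (S : Finset (Fin n × Fin n)) : MvPowerSeries (Fin n ⊕ Fin n) ℤ :=
  fun e => ((sols S e).ncard : ℤ)

theorem coeff_ser (S : Finset (Fin n × Fin n)) (e : (Fin n ⊕ Fin n) →₀ ℕ) :
    MvPowerSeries.coeff e (ser S) = ((sols S e).ncard : ℤ) := rfl

/-- The monomial of a cell. -/
noncomputable def cellMon (c : Fin n × Fin n) : MvPowerSeries (Fin n ⊕ Fin n) ℤ :=
  MvPowerSeries.monomial (cellExp c) 1

theorem cellMon_eq (c : Fin n × Fin n) :
    cellMon c = MvPowerSeries.X (Sum.inl c.1) * MvPowerSeries.X (Sum.inr c.2) := by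
  rw [MvPowerSeries.X, MvPowerSeries.X, MvPowerSeries.monomial_mul_monomial, one_mul]
  rfl

theorem ser_empty : ser (∅ : Finset (Fin n × Fin n)) = 1 := by
  ext e
  rw [coeff_ser, MvPowerSeries.coeff_one]
  split_ifs with h
  · subst h
    rw [show sols (∅ : Finset (Fin n × Fin n)) 0 = {0} from ?_, Set.ncard_singleton, Nat.cast_one]
    ext M
    constructor
    · rintro ⟨hM, -⟩; funext c; exact hM c (notMem_empty c)
    · rintro rfl; exact ⟨fun c _ => rfl, by simp⟩
  · rw [show sols (∅ : Finset (Fin n × Fin n)) e = ∅ from ?_, Set.ncard_empty, Nat.cast_zero]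
    rw [Set.eq_empty_iff_forall_notMem]
    rintro M ⟨hM, he⟩
    exact h (he ▸ Finset.sum_eq_zero fun c _ => by rw [hM c (notMem_empty c), zero_smul])

theorem sum_update_add_one (M : Fin n × Fin n → ℕ) (c : Fin n × Fin n) :
    ∑ d, Function.update M c (M c + 1) d • cellExp d = (∑ d, M d • cellExp d) + cellExp c := by
  rw [Fintype.sum_eq_add_sum_compl c, Fintype.sum_eq_add_sum_compl c (fun d => M d • cellExp d),
    Function.update_self, add_smul, one_smul]
  have : ∑ d ∈ {c}ᶜ, Function.update M c (M c + 1) d • cellExp d = ∑ d ∈ {c}ᶜ, M d • cellExp d :=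
    Finset.sum_congr rfl fun d hd => by
      rw [Function.update_of_ne (by simpa using hd)]
  rw [this]
  abel

theorem one_sub_mul_ser {c : Fin n × Fin n} {S : Finset (Fin n × Fin n)} (hc : c ∉ S) :
    (1 - cellMon c) * ser (insert c S) = ser S := by
  ext e
  rw [sub_mul, one_mul, map_sub, cellMon, MvPowerSeries.coeff_monomial_mul, coeff_ser, coeff_ser]
  have hT : (sols (insert c S) e).ncard =
      (sols S e).ncard + {M ∈ sols (insert c S) e | M c ≠ 0}.ncard := by
    rw [← Set.ncard_union_eq ?_ (sols_finite _ _) ((sols_finite _ _).subset fun M h => h.1)]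
    · congr 1
      ext M
      constructor
      · intro h
        by_cases h0 : M c = 0
        · exact Or.inl ⟨fun d hd => if hdc : d = c then hdc ▸ h0 else h.1 d (by simp [hdc, hd]), h.2⟩
        · exact Or.inr ⟨h, h0⟩
      · rintro (h | h)
        · exact ⟨fun d hd => h.1 d fun hd' => hd (mem_insert_of_mem hd'), h.2⟩
        · exact h.1
    · rw [Set.disjoint_left]
      rintro M h ⟨-, h0⟩
      exact h0 (h.1 c hc)
  split_ifs with hle
  · rw [one_mul, coeff_ser, hT]
    have : {M ∈ sols (insert c S) e | M c ≠ 0}.ncard = (sols (insert c S) (e - cellExp c)).ncard := by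
      have him : {M ∈ sols (insert c S) e | M c ≠ 0} =
          (fun M => Function.update M c (M c + 1)) '' sols (insert c S) (e - cellExp c) := by
        ext M
        constructor
        · rintro ⟨⟨hS, he⟩, h0⟩
          have hback : Function.update (Function.update M c (M c - 1)) c
              ((Function.update M c (M c - 1)) c + 1) = M := by
            rw [Function.update_self, Function.update_idem, Nat.sub_add_cancel (Nat.pos_of_ne_zero h0),
              Function.update_eq_self]
          refine ⟨Function.update M c (M c - 1), ⟨fun d hd => ?_, ?_⟩, hback⟩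
          · rw [Function.update_of_ne (by rintro rfl; exact hd (mem_insert_self _ _))]
            exact hS d hd
          · have h := sum_update_add_one (Function.update M c (M c - 1)) c
            rw [hback, he] at h
            rw [h, add_tsub_cancel_right]
        · rintro ⟨N, ⟨hS, he⟩, rfl⟩
          refine ⟨⟨fun d hd => ?_, ?_⟩, by simp⟩
          · simp only
            rw [Function.update_of_ne (fun e' : d = c => hd (e'.symm ▸ mem_insert_self c S))]
            exact hS d hd
          · rw [sum_update_add_one, he, tsub_add_cancel_of_le hle]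
      rw [him, Set.ncard_image_of_injective]
      intro M N h
      funext d
      by_cases hd : d = c
      · subst hd
        simpa using congrFun h d
      · simpa [Function.update_of_ne hd] using congrFun h d
    rw [this]; push_cast; ring
  · rw [hT]
    have : {M ∈ sols (insert c S) e | M c ≠ 0} = ∅ := by
      rw [Set.eq_empty_iff_forall_notMem]
      rintro M ⟨⟨-, he⟩, h0⟩
      refine hle ?_
      rw [← he]
      refine le_trans ?_ (Finset.single_le_sum (f := fun d => M d • cellExp d) (fun d _ => zero_le) (mem_univ c))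
      conv_lhs => rw [← one_smul ℕ (cellExp c)]
      intro v
      simp only [Finsupp.smul_apply, smul_eq_mul]
      exact Nat.mul_le_mul_right _ (Nat.pos_of_ne_zero h0)
    rw [this, Set.ncard_empty]; simp [coeff_ser]

theorem prod_one_sub_mul_ser (S : Finset (Fin n × Fin n)) :
    (∏ c ∈ S, (1 - cellMon c)) * ser S = 1 := by
  induction S using Finset.induction with
  | empty => rw [prod_empty, ser_empty, one_mul]
  | insert c S hc ih =>
    rw [prod_insert hc, mul_comm (1 - cellMon c), mul_assoc, one_sub_mul_ser hc, ih]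

theorem one_sub_mul_ser_single (c : Fin n × Fin n) : (1 - cellMon c) * ser {c} = 1 := by
  simpa using prod_one_sub_mul_ser {c}

theorem prod_ser_single (S : Finset (Fin n × Fin n)) : ∏ c ∈ S, ser {c} = ser S := by
  refine (left_inv_eq_right_inv (a := ∏ c ∈ S, (1 - cellMon c)) ?_ (prod_one_sub_mul_ser S))
  rw [← prod_mul_distrib]
  exact prod_eq_one fun c _ => by rw [mul_comm]; exact one_sub_mul_ser_single c

/-! ### Cauchy's determinant -/

theorem prod_erase_ordered {R : Type*} [CommRing R] (y : Fin n → R) :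
    ∏ i, ∏ k ∈ univ.erase i, (y i - y k) =
      (∏ i, ∏ j ∈ Ioi i, (y i - y j)) * ∏ i, ∏ j ∈ Ioi i, (y j - y i) := by
  have h1 : ∀ i : Fin n, univ.erase i = Ioi i ∪ Iio i := fun i => by
    ext k; simp [lt_or_lt_iff_ne, eq_comm]
  have h2 : ∀ i : Fin n, Disjoint (Ioi i) (Iio i) := fun i => by
    rw [Finset.disjoint_left]; intro k hk hk'
    exact lt_asymm (mem_Ioi.1 hk) (mem_Iio.1 hk')
  simp only [h1, prod_union (h2 _), prod_mul_distrib]
  congr 1
  rw [prod_comm' (t' := univ) (s' := fun j => Ioi j)]
  intro i j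
  simp

theorem det_prod_one_sub {R : Type*} [CommRing R] [IsDomain R] (x y : Fin n → R)
    (hy : Function.Injective y) :
    (Matrix.of fun i j => ∏ k ∈ univ.erase j, (1 - x i * y k)).det =
      (Matrix.vandermonde x).det * (Matrix.vandermonde y).det := by
  let C : Matrix (Fin n) (Fin n) R := Matrix.of fun m j =>
    (-1) ^ (m : ℕ) * ∑ t ∈ (univ.erase j).powersetCard m, ∏ k ∈ t, y k
  have key : ∀ (z w : R) (j : Fin n), ∏ k ∈ univ.erase j, (z - w * y k) =
      ∑ m : Fin n, w ^ (m : ℕ) * z ^ ((m.rev : Fin n) : ℕ) * C m j := by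
    intro z w j
    have hcard : (univ.erase j).card + 1 = n := by
      rw [card_erase_add_one (mem_univ j), card_univ, Fintype.card_fin]
    rw [prod_sub, Finset.sum_powerset, hcard, Finset.sum_range]
    refine sum_congr rfl fun m _ => ?_
    simp only [C, Matrix.of_apply, mul_sum]
    refine sum_congr rfl fun t ht => ?_
    obtain ⟨hts, htc⟩ := mem_powersetCard.1 ht
    rw [prod_const, prod_mul_distrib, prod_const, htc, card_sdiff_of_subset hts, htc, Fin.val_rev]
    rw [show (univ.erase j).card - (m : ℕ) = n - (↑m + 1) by omega]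
    ring
  have hA : (Matrix.of fun i j => ∏ k ∈ univ.erase j, (1 - x i * y k)) = Matrix.vandermonde x * C := by
    ext i j
    rw [Matrix.of_apply, key, Matrix.mul_apply]
    simp [Matrix.vandermonde_apply]
  have hW : Matrix.projVandermonde (fun _ => (1 : R)) y * C =
      Matrix.diagonal fun i => ∏ k ∈ univ.erase i, (y i - y k) := by
    ext i j
    have := key (y i) 1 j
    simp only [one_mul, one_pow] at this
    rw [Matrix.mul_apply]
    simp only [Matrix.projVandermonde_apply, one_pow, one_mul]
    rw [← this]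
    by_cases h : i = j
    · subst h; rw [Matrix.diagonal_apply_eq]
    · rw [Matrix.diagonal_apply_ne _ h]
      exact prod_eq_zero (mem_erase.2 ⟨h, mem_univ i⟩) (sub_self _)
  have hdC := congrArg Matrix.det hW
  rw [Matrix.det_mul, Matrix.det_diagonal, Matrix.det_projVandermonde, prod_erase_ordered] at hdC
  simp only [one_mul] at hdC
  rw [hA, Matrix.det_mul, Matrix.det_vandermonde y]
  congr 1
  refine mul_left_cancel₀ ?_ hdC
  simp only [prod_ne_zero_iff, mem_Ioi, sub_ne_zero]
  intro i _ j hj h
  exact (ne_of_lt hj) (hy h)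

theorem cauchy_det :
    (Matrix.of fun i j : Fin n => ser {(i, j)}).det =
      ser (univ : Finset (Fin n × Fin n)) *
        ((Matrix.vandermonde fun i => (MvPowerSeries.X (Sum.inl i) : MvPowerSeries (Fin n ⊕ Fin n) ℤ)).det *
          (Matrix.vandermonde fun j => (MvPowerSeries.X (Sum.inr j) : MvPowerSeries (Fin n ⊕ Fin n) ℤ)).det) := by
  have hinj : Function.Injective
      (fun j => (MvPowerSeries.X (Sum.inr j) : MvPowerSeries (Fin n ⊕ Fin n) ℤ)) := fun a b h =>
    Sum.inr_injective (MvPowerSeries.X_inj.1 h)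
  have : IsDomain (MvPowerSeries (Fin n ⊕ Fin n) ℤ) := NoZeroDivisors.to_isDomain _
  rw [← det_prod_one_sub _ _ hinj]
  set P : MvPowerSeries (Fin n ⊕ Fin n) ℤ := ∏ c : Fin n × Fin n, (1 - cellMon c) with hP
  have hrow : (Matrix.of fun i j : Fin n => ∏ k ∈ univ.erase j,
      (1 - (MvPowerSeries.X (Sum.inl i) : MvPowerSeries (Fin n ⊕ Fin n) ℤ) * MvPowerSeries.X (Sum.inr k))) =
      Matrix.of fun i j : Fin n => (∏ k, (1 - cellMon (i, k))) * (Matrix.of fun i j => ser {(i, j)}) i j := by
    ext i j : 2
    simp only [Matrix.of_apply]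
    rw [← prod_erase_mul _ _ (mem_univ j), mul_assoc, one_sub_mul_ser_single, mul_one]
    simp only [cellMon_eq]
  rw [hrow, Matrix.det_mul_column, ← Fintype.prod_prod_type', ← mul_assoc,
    mul_comm (ser _), prod_one_sub_mul_ser, one_mul]

theorem vandermonde_X_det {σ : Type*} (v : Fin n → σ) :
    (Matrix.vandermonde fun i => (MvPowerSeries.X (v i) : MvPowerSeries σ ℤ)).det =
      ∑ κ : Equiv.Perm (Fin n), ((Equiv.Perm.sign κ : ℤ) : MvPowerSeries σ ℤ) *
        MvPowerSeries.monomial (∑ i, Finsupp.single (v i) ((κ i : Fin n) : ℕ)) 1 := by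
  rw [← Matrix.det_transpose, Matrix.det_apply']
  refine sum_congr rfl fun κ _ => ?_
  congr 1
  simp only [Matrix.transpose_apply, Matrix.vandermonde_apply, MvPowerSeries.X_pow_eq]
  generalize (univ : Finset (Fin n)) = s
  induction s using Finset.induction with
  | empty => simp
  | insert a s ha ih =>
    rw [prod_insert ha, sum_insert ha, ih, MvPowerSeries.monomial_mul_monomial, one_mul]

/-- The exponent with halves `a` and `b`. -/
noncomputable def pairExp (a b : Fin n → ℕ) : (Fin n ⊕ Fin n) →₀ ℕ :=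
  Finsupp.equivFunOnFinite.symm (Sum.elim a b)

@[simp] theorem pairExp_inl (a b : Fin n → ℕ) (i : Fin n) : pairExp a b (Sum.inl i) = a i := rfl

@[simp] theorem pairExp_inr (a b : Fin n → ℕ) (i : Fin n) : pairExp a b (Sum.inr i) = b i := rfl

/-- The matrices with margins `a`, `b`. -/
def marginMatrices (a b : Fin n → ℕ) : Set (Fin n × Fin n → ℕ) :=
  {M | (∀ i, ∑ j, M (i, j) = a i) ∧ ∀ j, ∑ i, M (i, j) = b j}

theorem sols_univ (a b : Fin n → ℕ) :
    sols (univ : Finset (Fin n × Fin n)) (pairExp a b) = marginMatrices a b := by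
  ext M
  simp [sols, marginMatrices, margins_eq_iff]

theorem exponent_sum (κ κ' : Equiv.Perm (Fin n)) :
    (∑ i, Finsupp.single (Sum.inl i : Fin n ⊕ Fin n) ((κ i : Fin n) : ℕ)) +
      ∑ i, Finsupp.single (Sum.inr i : Fin n ⊕ Fin n) ((κ' i : Fin n) : ℕ) =
      pairExp (fun i => (κ i : ℕ)) (fun i => (κ' i : ℕ)) := by
  ext (a | b) <;> simp [Finsupp.single_apply]

/-- The alternating sum of margin counts is a Kronecker delta. -/
theorem margin_orthogonal (L L' : Fin n → ℕ) (hL : StrictMono L) (hL' : StrictMono L') :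
    (∑ κ : Equiv.Perm (Fin n), ∑ κ' : Equiv.Perm (Fin n),
      if (∀ i, (κ i : ℕ) ≤ L i) ∧ (∀ i, (κ' i : ℕ) ≤ L' i) then
        (Equiv.Perm.sign κ : ℤ) * (Equiv.Perm.sign κ' : ℤ) *
          ((marginMatrices (fun i => L i - κ i) (fun i => L' i - κ' i)).ncard : ℤ)
      else 0) = if L = L' then 1 else 0 := by
  classical
  have h := congrArg (MvPowerSeries.coeff (pairExp L L')) (cauchy_det (n := n))
  have hR : ∀ κ κ' : Equiv.Perm (Fin n),
      MvPowerSeries.coeff (pairExp L L')
        (ser (univ : Finset (Fin n × Fin n)) *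
          ((((Equiv.Perm.sign κ : ℤ) : MvPowerSeries (Fin n ⊕ Fin n) ℤ) *
            MvPowerSeries.monomial (∑ i, Finsupp.single (Sum.inl i) ((κ i : Fin n) : ℕ)) 1) *
           (((Equiv.Perm.sign κ' : ℤ) : MvPowerSeries (Fin n ⊕ Fin n) ℤ) *
            MvPowerSeries.monomial (∑ i, Finsupp.single (Sum.inr i) ((κ' i : Fin n) : ℕ)) 1))) =
      if (∀ i, (κ i : ℕ) ≤ L i) ∧ (∀ i, (κ' i : ℕ) ≤ L' i) then
        (Equiv.Perm.sign κ : ℤ) * (Equiv.Perm.sign κ' : ℤ) *
          ((marginMatrices (fun i => L i - κ i) (fun i => L' i - κ' i)).ncard : ℤ)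
      else 0 := by
    intro κ κ'
    rw [mul_mul_mul_comm, MvPowerSeries.monomial_mul_monomial, one_mul, exponent_sum, ← Int.cast_mul,
      mul_comm (ser _), mul_assoc, ← map_intCast (MvPowerSeries.C (σ := Fin n ⊕ Fin n) (R := ℤ)),
      MvPowerSeries.coeff_C_mul, MvPowerSeries.coeff_monomial_mul, coeff_ser]
    by_cases hc : (∀ i, (κ i : ℕ) ≤ L i) ∧ (∀ i, (κ' i : ℕ) ≤ L' i)
    · rw [if_pos hc, if_pos (by rintro (i | i) <;> simp [hc.1, hc.2]), one_mul]
      have : pairExp L L' - pairExp (fun i => (κ i : ℕ)) (fun i => (κ' i : ℕ)) =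
          pairExp (fun i => L i - κ i) (fun i => L' i - κ' i) := by
        ext (i | i) <;> simp
      rw [this, sols_univ, Int.cast_id]
    · rw [if_neg hc, if_neg, mul_zero]
      intro hle
      exact hc ⟨fun i => by simpa using hle (Sum.inl i), fun i => by simpa using hle (Sum.inr i)⟩
  rw [vandermonde_X_det, vandermonde_X_det, sum_mul_sum, mul_sum, map_sum] at h
  simp only [mul_sum, map_sum, hR] at h
  rw [← h, Matrix.det_apply', map_sum]
  have hcoef : ∀ σ : Equiv.Perm (Fin n),
      MvPowerSeries.coeff (pairExp L L')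
        (((Equiv.Perm.sign σ : ℤ) : MvPowerSeries (Fin n ⊕ Fin n) ℤ) *
          ∏ i, (Matrix.of fun i j : Fin n => ser {(i, j)}) (σ i) i) =
      if L ∘ σ = L' then (Equiv.Perm.sign σ : ℤ) else 0 := by
    intro σ
    have hg : Function.Injective fun i => ((σ i, i) : Fin n × Fin n) := fun a b h => (Prod.mk.inj h).2
    rw [← map_intCast (MvPowerSeries.C (σ := Fin n ⊕ Fin n) (R := ℤ)), MvPowerSeries.coeff_C_mul]
    simp only [Matrix.of_apply]
    rw [← prod_image (f := fun c => ser {c}) (g := fun i => ((σ i, i) : Fin n × Fin n)) hg.injOn,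
      prod_ser_single, coeff_ser, Int.cast_id]
    set S := univ.image fun i => ((σ i, i) : Fin n × Fin n) with hS
    have hmem : ∀ c : Fin n × Fin n, c ∈ S ↔ c.1 = σ c.2 := by
      rintro ⟨a, b⟩
      simp only [hS, mem_image, mem_univ, true_and, Prod.mk.injEq]
      exact ⟨fun ⟨i, hi, hb⟩ => by subst hb; exact hi.symm, fun h => ⟨b, h.symm, rfl⟩⟩
    have hcol : ∀ M : Fin n × Fin n → ℕ, (∀ c ∉ S, M c = 0) → ∀ b, ∑ a, M (a, b) = M (σ b, b) :=
      fun M hM b => Fintype.sum_eq_single _ fun a ha => hM _ (by rw [hmem]; exact ha)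
    have hrow : ∀ M : Fin n × Fin n → ℕ, (∀ c ∉ S, M c = 0) → ∀ b, ∑ j, M (σ b, j) = M (σ b, b) :=
      fun M hM b => Fintype.sum_eq_single _ fun j hj => hM _ (by
        rw [hmem]; exact fun e => hj (σ.injective e).symm)
    split_ifs with hσ
    · rw [show sols S (pairExp L L') = {fun c => if c ∈ S then L' c.2 else 0} from ?_,
        Set.ncard_singleton, Nat.cast_one, mul_one]
      ext M
      constructor
      · rintro ⟨hM, he⟩
        funext c
        by_cases hc : c ∈ S
        · have h2 := ((margins_eq_iff M _).1 he).2 c.2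
          rw [hcol M hM, pairExp_inr] at h2
          rw [if_pos hc, ← h2, ← (hmem c).1 hc]
        · rw [if_neg hc, hM c hc]
      · rintro rfl
        refine ⟨fun c hc => if_neg hc, (margins_eq_iff _ _).2 ⟨fun a => ?_, fun b => ?_⟩⟩
        · obtain ⟨b, rfl⟩ := σ.surjective a
          refine (hrow (fun c => if c ∈ S then L' c.2 else 0) (fun c hc => if_neg hc) b).trans ?_
          simp only [if_pos ((hmem (σ b, b)).2 rfl), pairExp_inl]
          exact (congrFun hσ b).symm
        · refine (hcol (fun c => if c ∈ S then L' c.2 else 0) (fun c hc => if_neg hc) b).trans ?_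
          simp only [if_pos ((hmem (σ b, b)).2 rfl), pairExp_inr]
    · rw [show sols S (pairExp L L') = ∅ from ?_, Set.ncard_empty, Nat.cast_zero, mul_zero]
      rw [Set.eq_empty_iff_forall_notMem]
      rintro M ⟨hM, he⟩
      apply hσ
      funext b
      have h1 := ((margins_eq_iff M _).1 he).1 (σ b)
      have h2 := ((margins_eq_iff M _).1 he).2 b
      rw [hrow M hM, pairExp_inl] at h1
      rw [hcol M hM, pairExp_inr] at h2
      rw [Function.comp_apply, ← h1, h2]
  simp only [hcoef]
  by_cases hLL : L = L'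
  · subst hLL
    rw [Fintype.sum_eq_single (1 : Equiv.Perm (Fin n))]
    · simp
    · intro σ hσ
      rw [if_neg]
      intro e
      exact hσ (Equiv.ext fun i => hL.injective (congrFun e i))
  · rw [if_neg hLL]
    refine sum_eq_zero fun σ _ => if_neg fun e => hLL ?_
    refine (hL.range_inj hL').1 ?_
    rw [← e, Set.range_comp, σ.range_eq_univ, Set.image_univ]

end Cfsg.Agent.Unipotent
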