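import Cfsg.Prelude.Def_LinearParabolics
import Cfsg.Agent.Lib.Unipotent.Cauchy

/-!
# Block labels of compositions and margin matrices of permutations
-/

set_option autoImplicit false

namespace Cfsg.Agent.Unipotent

open Finset

variable {n : ℕ}

/-- Partial sums of a composition. -/
def partSum (μ : Fin n → ℕ) (m : ℕ) : ℕ := ∑ k ∈ univ.filter (fun k : Fin n => k.val < m), μ k

theorem partSum_zero (μ : Fin n → ℕ) : partSum μ 0 = 0 := by simp [partSum]

theorem partSum_last (μ : Fin n → ℕ) : partSum μ n = ∑ i, μ i := by simp [partSum]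

theorem partSum_mono (μ : Fin n → ℕ) : Monotone (partSum μ) := fun a b h => by
  refine sum_le_sum_of_subset fun k hk => ?_
  simp only [mem_filter, mem_univ, true_and] at hk ⊢
  omega

theorem partSum_succ (μ : Fin n → ℕ) (j : Fin n) :
    partSum μ (j.val + 1) = partSum μ j.val + μ j := by
  have : univ.filter (fun k : Fin n => k.val < j.val + 1) =
      insert j (univ.filter fun k : Fin n => k.val < j.val) := by
    ext k
    simp [Fin.ext_iff]
    omega
  rw [partSum, this, sum_insert (by simp), add_comm]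
  rfl

theorem compLabel_eq_card (μ : Fin n → ℕ) (i : Fin n) :
    Cfsg.compLabel μ i = (univ.filter fun j : Fin n => partSum μ (j.val + 1) ≤ i.val).card := by
  refine congrArg Finset.card (filter_congr fun j _ => ?_)
  have : univ.filter (fun k : Fin n => k ≤ j) = univ.filter (fun k : Fin n => k.val < j.val + 1) :=
    filter_congr fun k _ => by rw [Fin.le_def]; omega
  rw [this]
  rfl

theorem compLabel_mono (μ : Fin n → ℕ) : Monotone (Cfsg.compLabel μ) := fun a b h => by
  rw [compLabel_eq_card, compLabel_eq_card]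
  exact card_le_card fun j hj => by
    simp only [mem_filter, mem_univ, true_and] at hj ⊢
    exact hj.trans h

theorem compLabel_of_bounds (μ : Fin n → ℕ) (i j : Fin n) (h1 : partSum μ j.val ≤ i.val)
    (h2 : i.val < partSum μ (j.val + 1)) : Cfsg.compLabel μ i = j.val := by
  rw [compLabel_eq_card]
  have : univ.filter (fun k : Fin n => partSum μ (k.val + 1) ≤ i.val) =
      univ.filter fun k : Fin n => k.val < j.val := by
    refine filter_congr fun k _ => ⟨fun hk => ?_, fun hk => le_trans (partSum_mono μ hk) h1⟩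
    by_contra hkj
    exact absurd (le_trans (partSum_mono μ (show j.val + 1 ≤ k.val + 1 by omega)) hk) (by omega)
  rw [this, Fin.card_filter_val_lt, min_eq_right j.isLt.le]

theorem exists_bounds {μ : Fin n → ℕ} (hμ : ∑ i, μ i = n) (i : Fin n) :
    ∃ j : Fin n, partSum μ j.val ≤ i.val ∧ i.val < partSum μ (j.val + 1) := by
  classical
  have hex : ∃ m, i.val < partSum μ m := ⟨n, by rw [partSum_last, hμ]; exact i.isLt⟩
  have hpos : 0 < Nat.find hex := by
    by_contra h0
    have := Nat.find_spec hex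
    rw [show Nat.find hex = 0 by omega, partSum_zero] at this
    omega
  have hle : Nat.find hex ≤ n := Nat.find_min' hex (by rw [partSum_last, hμ]; exact i.isLt)
  refine ⟨⟨Nat.find hex - 1, by omega⟩, ?_, ?_⟩
  · exact le_of_not_gt (Nat.find_min hex (by simp only; omega))
  · have := Nat.find_spec hex
    simpa [Nat.sub_add_cancel hpos] using this

theorem compLabel_lt {μ : Fin n → ℕ} (hμ : ∑ i, μ i = n) (i : Fin n) : Cfsg.compLabel μ i < n := by
  obtain ⟨j, h1, h2⟩ := exists_bounds hμ i
  rw [compLabel_of_bounds μ i j h1 h2]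
  exact j.isLt

/-- The block containing a position. -/
def lab (μ : Fin n → ℕ) (hμ : ∑ i, μ i = n) (i : Fin n) : Fin n :=
  ⟨Cfsg.compLabel μ i, compLabel_lt hμ i⟩

theorem lab_eq_iff {μ : Fin n → ℕ} (hμ : ∑ i, μ i = n) (i j : Fin n) :
    lab μ hμ i = j ↔ partSum μ j.val ≤ i.val ∧ i.val < partSum μ (j.val + 1) := by
  constructor
  · rintro rfl
    obtain ⟨j', h1, h2⟩ := exists_bounds hμ i
    have : lab μ hμ i = j' := Fin.ext (compLabel_of_bounds μ i j' h1 h2)
    rw [this]
    exact ⟨h1, h2⟩
  · exact fun h => Fin.ext (compLabel_of_bounds μ i j h.1 h.2)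

theorem card_lab_eq {μ : Fin n → ℕ} (hμ : ∑ i, μ i = n) (j : Fin n) :
    (univ.filter fun i => lab μ hμ i = j).card = μ j := by
  rw [show μ j = (Finset.Ico (partSum μ j.val) (partSum μ (j.val + 1))).card by
    rw [Nat.card_Ico, partSum_succ]; omega]
  refine card_bij (fun i _ => i.val) (fun i hi => ?_) (fun a _ b _ h => Fin.ext h) fun x hx => ?_
  · simpa [lab_eq_iff] using hi
  · rw [Finset.mem_Ico] at hx
    have hxn : x < n := lt_of_lt_of_le hx.2 (by
      calc partSum μ (j.val + 1) ≤ partSum μ n := partSum_mono μ j.isLt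
        _ = n := by rw [partSum_last, hμ])
    exact ⟨⟨x, hxn⟩, by simp [lab_eq_iff, hx.1, hx.2], rfl⟩

/-- The matrix counting, for each pair of blocks, the positions moved from the one block into the other. -/
def permMargin {μ ν : Fin n → ℕ} (hμ : ∑ i, μ i = n) (hν : ∑ i, ν i = n) (σ : Equiv.Perm (Fin n))
    (c : Fin n × Fin n) : ℕ :=
  (univ.filter fun k => (lab μ hμ (σ k), lab ν hν k) = c).card

theorem permMargin_mem {μ ν : Fin n → ℕ} (hμ : ∑ i, μ i = n) (hν : ∑ i, ν i = n)
    (σ : Equiv.Perm (Fin n)) : permMargin hμ hν σ ∈ marginMatrices μ ν := by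
  refine ⟨fun a => ?_, fun b => ?_⟩
  · rw [← card_lab_eq hμ a]
    simp only [permMargin]
    rw [← card_sigma]
    refine card_bij (fun x _ => σ x.2) (fun x hx => ?_) (fun x hx y hy h => ?_) fun i hi => ?_
    · simp only [mem_sigma, mem_univ, mem_filter, true_and, Prod.mk.injEq] at hx ⊢
      exact hx.1
    · simp only [mem_sigma, mem_univ, mem_filter, true_and, Prod.mk.injEq] at hx hy
      have h2 := σ.injective h
      refine Sigma.ext ?_ (heq_of_eq h2)
      rw [← hx.2, ← hy.2, h2]
    · simp only [mem_filter, mem_univ, true_and] at hi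
      exact ⟨⟨lab ν hν (σ.symm i), σ.symm i⟩, by simp [hi], by simp⟩
  · rw [← card_lab_eq hν b]
    simp only [permMargin]
    rw [← card_sigma]
    refine card_bij (fun x _ => x.2) (fun x hx => ?_) (fun x hx y hy h => ?_) fun i hi => ?_
    · simp only [mem_sigma, mem_univ, mem_filter, true_and, Prod.mk.injEq] at hx ⊢
      exact hx.2
    · simp only [mem_sigma, mem_univ, mem_filter, true_and, Prod.mk.injEq] at hx hy
      refine Sigma.ext ?_ (heq_of_eq h)
      rw [← hx.1, ← hy.1, h]
    · simp only [mem_filter, mem_univ, true_and] at hi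
      exact ⟨⟨lab μ hμ (σ i), i⟩, by simp [hi], rfl⟩

theorem exists_permMargin_eq {μ ν : Fin n → ℕ} (hμ : ∑ i, μ i = n) (hν : ∑ i, ν i = n)
    {M : Fin n × Fin n → ℕ} (hM : M ∈ marginMatrices μ ν) :
    ∃ σ : Equiv.Perm (Fin n), permMargin hμ hν σ = M := by
  classical
  obtain ⟨hr, hc⟩ := hM
  have e1 : ∀ b, {k // lab ν hν k = b} ≃ {x : Σ c : Fin n × Fin n, Fin (M c) // x.1.2 = b} := fun b =>
    Fintype.equivOfCardEq (by
      rw [Fintype.card_subtype, card_lab_eq, ← hc b, Fintype.card_subtype]
      rw [show (univ.filter fun x : Σ c : Fin n × Fin n, Fin (M c) => x.1.2 = b) =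
        (univ.filter fun c : Fin n × Fin n => c.2 = b).sigma fun c => univ by ext x; simp]
      rw [card_sigma]
      simp only [card_univ, Fintype.card_fin]
      rw [sum_filter, Fintype.sum_prod_type]
      simp)
  let e := Equiv.ofFiberEquiv e1
  have he : ∀ k, (e k).1.2 = lab ν hν k := Equiv.ofFiberEquiv_map e1
  let h : Fin n → Fin n := fun k => (e k).1.1
  have e2 : ∀ a, {k // h k = a} ≃ {i // lab μ hμ i = a} := fun a =>
    Fintype.equivOfCardEq (by
      rw [Fintype.card_subtype, Fintype.card_subtype, card_lab_eq, ← hr a]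
      rw [show (univ.filter fun k => h k = a).card =
        ((univ.filter fun c : Fin n × Fin n => c.1 = a).sigma fun c => (univ : Finset (Fin (M c)))).card from
        card_bij (fun k _ => e k) (fun k hk => by simpa [h] using hk)
          (fun x _ y _ hxy => e.injective hxy) fun x hx => ⟨e.symm x, by simpa [h] using hx, by simp⟩]
      rw [card_sigma]
      simp only [card_univ, Fintype.card_fin]
      rw [sum_filter, Fintype.sum_prod_type, Fintype.sum_eq_single a (fun x hx => by simp [hx])]
      simp)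
  refine ⟨Equiv.ofFiberEquiv e2, funext fun c => ?_⟩
  have hσ : ∀ k, lab μ hμ (Equiv.ofFiberEquiv e2 k) = h k := Equiv.ofFiberEquiv_map e2
  rw [permMargin]
  conv_rhs => rw [← Fintype.card_fin (M c), ← card_univ]
  rw [← card_map (Function.Embedding.sigmaMk c (β := fun c => Fin (M c)))]
  refine card_bij (fun k _ => e k) (fun k hk => ?_) (fun x _ y _ hxy => e.injective hxy) fun x hx => ?_
  · simp only [mem_filter, mem_univ, true_and, hσ] at hk
    have : (e k).1 = c := by rw [← hk, ← he k]
    rw [mem_map]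
    refine ⟨this ▸ (e k).2, mem_univ _, ?_⟩
    subst this
    rfl
  · rw [mem_map] at hx
    obtain ⟨y, -, rfl⟩ := hx
    refine ⟨e.symm ⟨c, y⟩, ?_, by simp⟩
    simp only [mem_filter, mem_univ, true_and]
    rw [hσ, ← he]
    simp [h]

theorem exists_young_of_permMargin_eq {μ ν : Fin n → ℕ} (hμ : ∑ i, μ i = n) (hν : ∑ i, ν i = n)
    {σ τ : Equiv.Perm (Fin n)} (h : permMargin hμ hν σ = permMargin hμ hν τ) :
    ∃ p ∈ Cfsg.youngSubgroup μ, ∃ r ∈ Cfsg.youngSubgroup ν, τ = p * σ * r := by
  classical
  have e1 : ∀ c, {k // (lab μ hμ (σ k), lab ν hν k) = c} ≃ {k // (lab μ hμ (τ k), lab ν hν k) = c} :=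
    fun c => Fintype.equivOfCardEq (by
      rw [Fintype.card_subtype, Fintype.card_subtype]
      exact congrFun h c)
  let π : Equiv.Perm (Fin n) := Equiv.ofFiberEquiv e1
  have hπ : ∀ k, lab μ hμ (τ (π k)) = lab μ hμ (σ k) ∧ lab ν hν (π k) = lab ν hν k := fun k => by
    have := Equiv.ofFiberEquiv_map e1 k
    exact ⟨congrArg Prod.fst this, congrArg Prod.snd this⟩
  have hπm : π ∈ Cfsg.youngSubgroup ν := fun k => congrArg Fin.val (hπ k).2
  refine ⟨τ * π * σ⁻¹, ?_, π⁻¹, inv_mem hπm, by group⟩
  intro i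
  have := congrArg Fin.val (hπ (σ⁻¹ i)).1
  simpa [lab, Equiv.Perm.mul_apply] using this

end Cfsg.Agent.Unipotent
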