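import Cfsg.Agent.Lib.Unipotent.Comp
import Mathlib.LinearAlgebra.Matrix.GeneralLinearGroup.Card
import Mathlib.Data.Nat.Choose.Sum
import Mathlib.Data.Complex.Basic

/-!
# Indices of standard parabolic subgroups and the degree determinant
-/

set_option autoImplicit false

namespace Cfsg.Agent.Unipotent

open Finset Matrix
open scoped MatrixGroups

variable {n : ℕ} {F : Type*} [Field F]

/-- The q-integer. -/
def qNat (q r : ℕ) : ℕ := ∑ l ∈ range r, q ^ l

/-- The q-factorial. -/
def qFact (q r : ℕ) : ℕ := ∏ j ∈ range r, qNat q (j + 1)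

theorem qFact_succ (q r : ℕ) : qFact q (r + 1) = qFact q r * qNat q (r + 1) := prod_range_succ _ _

theorem qNat_pos {q r : ℕ} (hr : 0 < r) : 0 < qNat q r :=
  lt_of_lt_of_le Nat.one_pos (by
    simpa [qNat] using
      single_le_sum (f := fun l => q ^ l) (fun _ _ => Nat.zero_le _) (mem_range.2 hr))

theorem qFact_pos (q r : ℕ) : 0 < qFact q r :=
  prod_pos fun _ _ => qNat_pos (Nat.succ_pos _)

theorem qNat_mul_sub_one {q : ℕ} (hq : 1 ≤ q) (r : ℕ) : qNat q r * (q - 1) = q ^ r - 1 := by
  induction r with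
  | zero => simp [qNat]
  | succ r ih =>
    rw [qNat, sum_range_succ, add_mul, ← qNat, ih, Nat.mul_sub, mul_one, ← pow_succ]
    have h1 : 1 ≤ q ^ r := Nat.one_le_pow _ _ hq
    have h2 : q ^ r ≤ q ^ (r + 1) := Nat.pow_le_pow_right hq (Nat.le_succ _)
    omega

theorem prod_card_GL {q : ℕ} (hq : 1 ≤ q) (m : ℕ) :
    ∏ i : Fin m, (q ^ m - q ^ (i : ℕ)) = q ^ m.choose 2 * (q - 1) ^ m * qFact q m := by
  induction m with
  | zero => simp [qFact]
  | succ m ih =>
    rw [Fin.prod_univ_succ, Fin.val_zero, pow_zero]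
    have : ∀ i : Fin m, q ^ (m + 1) - q ^ ((i.succ : Fin (m + 1)) : ℕ) = q * (q ^ m - q ^ (i : ℕ)) :=
      fun i => by rw [Fin.val_succ, Nat.mul_sub, ← pow_succ', ← pow_succ']
    simp only [this, prod_mul_distrib, prod_const, card_univ, Fintype.card_fin]
    rw [ih, ← qNat_mul_sub_one hq, qFact_succ, Nat.choose_succ_succ', Nat.choose_one_right, pow_add,
      pow_succ (q - 1)]
    ring

theorem choose_two_double (m : ℕ) : 2 * m.choose 2 + m = m * m := by
  induction m with
  | zero => simp
  | succ m ih => rw [Nat.choose_succ_succ', Nat.choose_one_right]; nlinarith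

/-- The number of cells above the diagonal blocks. -/
theorem exponent_eq {μ : Fin n → ℕ} (hμ : ∑ i, μ i = n) :
    (∑ a, (μ a).choose 2) + Fintype.card {c : Fin n × Fin n // lab μ hμ c.1 < lab μ hμ c.2} =
      n.choose 2 := by
  classical
  rw [Fintype.card_subtype]
  set U := univ.filter fun c : Fin n × Fin n => lab μ hμ c.1 < lab μ hμ c.2 with hU
  set D := univ.filter fun c : Fin n × Fin n => lab μ hμ c.1 = lab μ hμ c.2 with hD
  set L := univ.filter fun c : Fin n × Fin n => lab μ hμ c.2 < lab μ hμ c.1 with hL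
  have hUL : U.card = L.card :=
    card_bij (fun c _ => (c.2, c.1)) (fun c hc => by simpa [hU, hL] using hc)
      (fun a _ b _ e => Prod.ext (Prod.mk.inj e).2 (Prod.mk.inj e).1)
      fun c hc => ⟨(c.2, c.1), by simpa [hU, hL] using hc, rfl⟩
  have hDc : D.card = ∑ a, μ a * μ a := by
    rw [card_eq_sum_card_fiberwise (f := fun c : Fin n × Fin n => lab μ hμ c.1) (t := univ)
      fun _ _ => mem_univ _]
    refine sum_congr rfl fun a _ => ?_
    rw [← card_lab_eq hμ a, ← card_product]
    congr 1
    ext c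
    simp only [hD, mem_filter, mem_univ, true_and, mem_product]
    exact ⟨fun h => ⟨h.2, h.1 ▸ h.2⟩, fun h => ⟨h.1.trans h.2.symm, h.1⟩⟩
  have htot : U.card + D.card + L.card = n * n := by
    have : (univ : Finset (Fin n × Fin n)).card = n * n := by simp
    rw [← this, card_eq_sum_ones U, card_eq_sum_ones D, card_eq_sum_ones L, card_eq_sum_ones univ,
      hU, hD, hL, sum_filter, sum_filter, sum_filter, ← sum_add_distrib, ← sum_add_distrib]
    refine sum_congr rfl fun c _ => ?_
    rcases lt_trichotomy (lab μ hμ c.1) (lab μ hμ c.2) with h | h | h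
    · simp [h, h.ne, h.le.not_gt]
    · simp [h]
    · simp [h, h.ne', h.le.not_gt]
  have h2 : 2 * (∑ a, (μ a).choose 2) + n = ∑ a, μ a * μ a := by
    rw [mul_sum]
    conv_lhs => arg 2; rw [← hμ]
    rw [← sum_add_distrib]
    exact sum_congr rfl fun a _ => choose_two_double _
  have h3 := choose_two_double n
  omega

theorem val_mkDet {m : Type*} [Fintype m] [DecidableEq m] (A : Matrix m m F) (h : A.det ≠ 0) :
    ((GeneralLinearGroup.mkOfDetNeZero A h : GL m F) : Matrix m m F) = A := rfl

/-- The matrix with given diagonal blocks and given cells above them. -/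
def glueBlocks (l : Fin n → Fin n) (d : ∀ a : Fin n, Matrix {i // l i = a} {i // l i = a} F)
    (u : {c : Fin n × Fin n // l c.1 < l c.2} → F) : Matrix (Fin n) (Fin n) F :=
  Matrix.of fun i j =>
    if h : l i = l j then d (l i) ⟨i, rfl⟩ ⟨j, h.symm⟩ else if h' : l i < l j then u ⟨(i, j), h'⟩ else 0

theorem glueBlocks_tri (l : Fin n → Fin n) (d : ∀ a : Fin n, Matrix {i // l i = a} {i // l i = a} F)
    (u : {c : Fin n × Fin n // l c.1 < l c.2} → F) : (glueBlocks l d u).BlockTriangular l := fun i j hij => by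
  simp [glueBlocks, hij.ne', hij.le.not_gt]

theorem glueBlocks_block (l : Fin n → Fin n) (d : ∀ a : Fin n, Matrix {i // l i = a} {i // l i = a} F)
    (u : {c : Fin n × Fin n // l c.1 < l c.2} → F) (a : Fin n) :
    (glueBlocks l d u).toSquareBlock l a = d a := by
  ext ⟨i, hi⟩ ⟨j, hj⟩
  subst hi
  simp [glueBlocks, Matrix.toSquareBlock, Matrix.toSquareBlockProp, hj.symm]

/-- Block decomposition of a standard parabolic subgroup. -/
theorem card_parabolic [Fintype F] {μ : Fin n → ℕ} (hμ : ∑ i, μ i = n) :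
    Nat.card (Cfsg.parabolicGL n F μ) =
      Fintype.card F ^ n.choose 2 * (Fintype.card F - 1) ^ n * ∏ i, qFact (Fintype.card F) (μ i) := by
  classical
  set l := lab μ hμ with hl
  have hbt : ∀ g : Matrix (Fin n) (Fin n) F,
      g.BlockTriangular (Cfsg.compLabel μ) ↔ g.BlockTriangular l := fun g => Iff.rfl
  have hdet : ∀ g : Matrix (Fin n) (Fin n) F, g.BlockTriangular l →
      g.det = ∏ a : Fin n, (g.toSquareBlock l a).det := fun g hg => hg.det_fintype
  let e : Cfsg.parabolicGL n F μ ≃
      (∀ a : Fin n, GL {i // l i = a} F) × ({c : Fin n × Fin n // l c.1 < l c.2} → F) :=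
    { toFun := fun g =>
        (fun a => GeneralLinearGroup.mkOfDetNeZero ((g.1 : Matrix (Fin n) (Fin n) F).toSquareBlock l a)
          (by
            have hu : (g.1 : Matrix (Fin n) (Fin n) F).det ≠ 0 :=
              ((Matrix.isUnit_iff_isUnit_det _).1 (Units.isUnit g.1)).ne_zero
            rw [hdet _ ((hbt _).1 g.2), prod_ne_zero_iff] at hu
            exact hu a (mem_univ a)),
          fun c => (g.1 : Matrix (Fin n) (Fin n) F) c.1.1 c.1.2)
      invFun := fun p =>
        ⟨GeneralLinearGroup.mkOfDetNeZero (glueBlocks l (fun a => ((p.1 a : GL {i // l i = a} F) : Matrix {i // l i = a} {i // l i = a} F)) p.2) (by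
          refine ne_of_eq_of_ne (hdet _ (glueBlocks_tri l _ _)) ?_
          rw [prod_ne_zero_iff]
          intro a _
          refine ne_of_eq_of_ne (congrArg Matrix.det (glueBlocks_block l _ _ a)) ?_
          exact ((Matrix.isUnit_iff_isUnit_det _).1 (Units.isUnit (p.1 a))).ne_zero),
          (hbt _).2 (glueBlocks_tri l (fun a => ((p.1 a : GL {i // l i = a} F) : Matrix {i // l i = a} {i // l i = a} F)) p.2)⟩
      left_inv := fun g => by
        apply Subtype.ext
        apply Units.ext
        ext i j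
        dsimp only
        simp only [val_mkDet]
        by_cases h : l i = l j
        · simp [glueBlocks, h, Matrix.toSquareBlock, Matrix.toSquareBlockProp, Matrix.submatrix]
        · by_cases h' : l i < l j
          · simp [glueBlocks, h, h']
          · simp only [glueBlocks, Matrix.of_apply, dif_neg h, dif_neg h']
            exact ((hbt _).1 g.2 (lt_of_le_of_ne (not_lt.1 h') (Ne.symm h))).symm
      right_inv := fun p => by
        refine Prod.ext (funext fun a => Units.ext ?_) (funext fun c => ?_)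
        · show (glueBlocks l (fun a => ((p.1 a : GL {i // l i = a} F) : Matrix {i // l i = a} {i // l i = a} F)) p.2).toSquareBlock l a = _
          exact glueBlocks_block l _ _ a
        · show glueBlocks l (fun a => ((p.1 a : GL {i // l i = a} F) : Matrix {i // l i = a} {i // l i = a} F)) p.2 c.1.1 c.1.2 = _
          simp [glueBlocks, c.2.ne, c.2] }
  rw [Nat.card_congr e, Nat.card_prod, Nat.card_pi, Nat.card_eq_fintype_card (α := _ → F),
    Fintype.card_fun]
  have hblock : ∀ a : Fin n, Nat.card (GL {i // l i = a} F) =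
      Fintype.card F ^ (μ a).choose 2 * (Fintype.card F - 1) ^ μ a * qFact (Fintype.card F) (μ a) := by
    intro a
    have hc : Fintype.card {i // l i = a} = μ a := by rw [Fintype.card_subtype, hl, card_lab_eq]
    have e' : {i // l i = a} ≃ Fin (μ a) := Fintype.equivFinOfCardEq hc
    rw [Nat.card_congr (Units.mapEquiv
        (Matrix.reindexAlgEquiv F F e').toMulEquiv).toEquiv, Matrix.card_GL_field,
      prod_card_GL Fintype.card_pos]
  simp only [hblock, prod_mul_distrib, prod_pow_eq_pow_sum, hμ]
  rw [← exponent_eq hμ, pow_add]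
  ring

theorem card_GL [Fintype F] (n : ℕ) :
    Nat.card (GL (Fin n) F) =
      Fintype.card F ^ n.choose 2 * (Fintype.card F - 1) ^ n * qFact (Fintype.card F) n := by
  rw [Matrix.card_GL_field, prod_card_GL Fintype.card_pos]

theorem index_parabolic [Fintype F] {μ : Fin n → ℕ} (hμ : ∑ i, μ i = n) :
    Nat.card (GL (Fin n) F ⧸ Cfsg.parabolicGL n F μ) * ∏ i, qFact (Fintype.card F) (μ i) =
      qFact (Fintype.card F) n := by
  have h1 := Subgroup.card_eq_card_quotient_mul_card_subgroup (Cfsg.parabolicGL n F μ)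
  rw [card_GL, card_parabolic hμ] at h1
  have hpos : 0 < Fintype.card F ^ n.choose 2 * (Fintype.card F - 1) ^ n :=
    Nat.mul_pos (Nat.pow_pos Fintype.card_pos) (Nat.pow_pos (Nat.sub_pos_of_lt Fintype.one_lt_card))
  refine Nat.eq_of_mul_eq_mul_left hpos ?_
  rw [h1]
  ring

/-- The product of the top factors of a q-factorial. -/
def qFall (q a j : ℕ) : ℕ := ∏ t ∈ range j, qNat q (a - t)

theorem qFall_eq_zero {q a j : ℕ} (h : a < j) : qFall q a j = 0 :=
  prod_eq_zero (mem_range.2 h) (by simp [qNat])

theorem qFact_sub_mul_qFall (q a : ℕ) : ∀ j ≤ a, qFact q (a - j) * qFall q a j = qFact q a := by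
  intro j
  induction j with
  | zero => simp [qFall]
  | succ j ih =>
    intro hj
    rw [qFall, prod_range_succ, ← qFall]
    have hs : a - j = a - (j + 1) + 1 := by omega
    rw [← ih (by omega), hs, qFact_succ]
    ring

theorem sum_range_choose_two (m : ℕ) : ∑ j ∈ range m, j.choose 2 = m.choose 3 := by
  induction m with
  | zero => simp
  | succ m ih => rw [sum_range_succ, ih, Nat.choose_succ_succ' m 2]; ring

theorem choose_three_eq (m : ℕ) : m.choose 3 = m * (m - 1) * (m - 2) / 6 := by
  rw [Nat.choose_eq_descFactorial_div_factorial]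
  congr 1
  simp [Nat.descFactorial_succ]
  ring

theorem pow_mul_qFall (q a : ℕ) (j : ℕ) :
    ((q : ℂ) ^ j.choose 2) * (qFall q a j : ℂ) = ∏ t ∈ range j, ((qNat q a : ℂ) - (qNat q t : ℂ)) := by
  rcases lt_or_ge a j with h | h
  · rw [qFall_eq_zero h, Nat.cast_zero, mul_zero]
    exact (prod_eq_zero (mem_range.2 h) (sub_self _)).symm
  · have hC : j.choose 2 = ∑ t ∈ range j, t := by rw [sum_range_id, Nat.choose_two_right]
    rw [hC, ← prod_pow_eq_pow_sum, qFall, Nat.cast_prod, ← prod_mul_distrib]
    refine prod_congr rfl fun t ht => ?_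
    have ht' : t ≤ a := le_of_lt (lt_of_lt_of_le (mem_range.1 ht) h)
    have : qNat q a = qNat q t + q ^ t * qNat q (a - t) := by
      conv_lhs => rw [qNat, ← Nat.add_sub_cancel' ht', sum_range_add]
      rw [qNat, qNat, mul_sum]
      simp only [← pow_add]
    rw [this]
    push_cast
    ring

open Polynomial in
theorem det_qFall (q : ℕ) (a : Fin n → ℕ) :
    (q : ℂ) ^ n.choose 3 * (Matrix.of fun i j : Fin n => (qFall q (a i) j.val : ℂ)).det =
      ∏ i : Fin n, ∏ j ∈ Ioi i, ((qNat q (a j) : ℂ) - (qNat q (a i) : ℂ)) := by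
  have h := det_mul_row (fun j : Fin n => (q : ℂ) ^ j.val.choose 2)
    (Matrix.of fun i j : Fin n => (qFall q (a i) j.val : ℂ))
  rw [prod_pow_eq_pow_sum, Fin.sum_univ_eq_sum_range (fun j => j.choose 2), sum_range_choose_two] at h
  rw [← h]
  let p : Fin n → ℂ[X] := fun j => ∏ t ∈ range j.val, (X - C (qNat q t : ℂ))
  have hp : (Matrix.of fun i j : Fin n => (q : ℂ) ^ j.val.choose 2 *
      (Matrix.of fun i j : Fin n => (qFall q (a i) j.val : ℂ)) i j) =
      Matrix.of fun i j => (p j).eval (qNat q (a i) : ℂ) := by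
    ext i j
    simp only [Matrix.of_apply, pow_mul_qFall, p, eval_prod, eval_sub, eval_X, eval_C]
  rw [hp, ← det_eval_matrixOfPolynomials_eq_det_vandermonde, det_vandermonde]
  · intro j
    simp only [p]
    rw [natDegree_prod_of_monic _ _ fun t _ => monic_X_sub_C _]
    simp only [natDegree_X_sub_C, sum_const, card_range, smul_eq_mul, mul_one]
  · exact fun j => monic_prod_of_monic _ _ fun t _ => monic_X_sub_C _

end Cfsg.Agent.Unipotent
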