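import Cfsg.Agent.Lib.Unipotent.GLCosets
import Cfsg.Agent.Lib.Unipotent.Degree
import Cfsg.Agent.Lib.Char.PermChar

/-!
# The characters of the general linear group attached to partitions
-/

set_option autoImplicit false
set_option linter.unusedSectionVars false

namespace Cfsg.Agent.Unipotent

open Finset Matrix
open scoped MatrixGroups ComplexConjugate

variable {n : ℕ} {F : Type*} [Field F] [Fintype F]

/-- The composition attached to a permutation. -/
def shiftComp (ν : Fin n → ℕ) (κ : Equiv.Perm (Fin n)) (i : Fin n) : ℕ := ν i + i.val - (κ i).val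

theorem sum_shiftComp {ν : Fin n → ℕ} (hsum : ∑ i, ν i = n) {κ : Equiv.Perm (Fin n)}
    (h : ∀ i, (κ i).val ≤ ν i + i.val) : ∑ i, shiftComp ν κ i = n := by
  simp only [shiftComp]
  rw [sum_tsub_distrib _ fun i _ => h i, sum_add_distrib, hsum,
    Equiv.sum_comp κ fun i : Fin n => i.val]
  omega

theorem strictMono_shift {ν : Fin n → ℕ} (hmono : Monotone ν) : StrictMono fun i : Fin n => ν i + i.val :=
  fun _ _ h => add_lt_add_of_le_of_lt (hmono h.le) h

open Classical in
theorem conj_unipotent (ν : Fin n → ℕ) (g : GL (Fin n) F) :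
    conj (Cfsg.unipotentCharacterGL n F ν g) = Cfsg.unipotentCharacterGL n F ν g := by
  simp only [Cfsg.unipotentCharacterGL, Cfsg.fixedPointCharacter, map_sum, apply_ite conj, map_mul,
    map_intCast, map_natCast, map_zero]

theorem sum_mul_unipotent [DecidableEq F] {ν ν' : Fin n → ℕ} (hmono : Monotone ν) (hsum : ∑ i, ν i = n)
    (hmono' : Monotone ν') (hsum' : ∑ i, ν' i = n) :
    (Nat.card (GL (Fin n) F) : ℂ)⁻¹ * ∑ g : GL (Fin n) F,
        Cfsg.unipotentCharacterGL n F ν g * Cfsg.unipotentCharacterGL n F ν' g =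
      if ν = ν' then 1 else 0 := by
  have hiff : (fun i : Fin n => ν i + i.val) = (fun i : Fin n => ν' i + i.val) ↔ ν = ν' :=
    ⟨fun h => funext fun i => by simpa using congrFun h i, fun h => by rw [h]⟩
  have h := margin_orthogonal _ _ (strictMono_shift hmono) (strictMono_shift hmono')
  simp only [hiff] at h
  have hR : (if ν = ν' then (1 : ℂ) else 0) = (((if ν = ν' then 1 else 0 : ℤ)) : ℂ) := by
    split_ifs <;> simp
  rw [hR, ← h]
  push_cast
  simp only [Cfsg.unipotentCharacterGL, sum_mul_sum]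
  rw [sum_comm, mul_sum]
  refine sum_congr rfl fun κ _ => ?_
  rw [sum_comm, mul_sum]
  refine sum_congr rfl fun κ' _ => ?_
  by_cases hv : ∀ i, (κ i).val ≤ ν i + i.val
  · by_cases hv' : ∀ i, (κ' i).val ≤ ν' i + i.val
    · simp only [if_pos hv, if_pos hv', if_pos (And.intro hv hv')]
      have := inner_parabolic (F := F) (μ := shiftComp ν κ) (ν := shiftComp ν' κ') (sum_shiftComp hsum hv)
        (sum_shiftComp hsum' hv')
      unfold shiftComp at this
      rw [← this, mul_sum, mul_sum, mul_sum]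
      refine sum_congr rfl fun g _ => ?_
      ring
    · simp only [if_neg hv', mul_zero, sum_const_zero, if_neg (fun h : _ ∧ _ => hv' h.2)]
  · simp only [if_neg hv, zero_mul, sum_const_zero, mul_zero, if_neg (fun h : _ ∧ _ => hv h.1)]

theorem isGeneralizedCharacter_unipotent [DecidableEq F] (ν : Fin n → ℕ) :
    Cfsg.IsGeneralizedCharacter (GL (Fin n) F) (Cfsg.unipotentCharacterGL n F ν) := by
  have hch : ∀ U : Subgroup (GL (Fin n) F),
      Cfsg.IsGeneralizedCharacter (GL (Fin n) F) (Cfsg.fixedPointCharacter U) := by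
    intro U
    rw [show Cfsg.fixedPointCharacter U = Cfsg.indFun U (fun _ => 1) from
      funext fun g => (Cfsg.Agent.Char.indFun_one_eq_card U g).symm]
    exact Cfsg.Agent.Char.IsGeneralizedCharacter.of_isCharacter
      (Cfsg.Agent.Char.isCharacter_indFun U Cfsg.Agent.Char.isCharacter_one)
  have : Cfsg.unipotentCharacterGL n F ν = ∑ κ : Equiv.Perm (Fin n),
      (((if ∀ i : Fin n, (κ i).val ≤ ν i + i.val then (Equiv.Perm.sign κ : ℤ) else 0 : ℤ)) : ℂ) •
        Cfsg.fixedPointCharacter (Cfsg.parabolicGL n F fun i => ν i + i.val - (κ i).val) := by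
    funext g
    rw [Finset.sum_apply]
    refine sum_congr rfl fun κ _ => ?_
    split_ifs <;> simp
  rw [this]
  exact Cfsg.Agent.Char.isGeneralizedCharacter_sum _ fun κ _ =>
    Cfsg.Agent.Char.IsGeneralizedCharacter.int_smul (hch _) _

theorem fixedPoint_one_mul (μ : Fin n → ℕ) (hμ : ∑ i, μ i = n) :
    Cfsg.fixedPointCharacter (Cfsg.parabolicGL n F μ) 1 * (∏ i, (qFact (Fintype.card F) (μ i) : ℂ)) =
      (qFact (Fintype.card F) n : ℂ) := by
  rw [← index_parabolic hμ (F := F), Nat.cast_mul, Nat.cast_prod, Cfsg.fixedPointCharacter]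
  congr 2
  refine Nat.card_congr ((Equiv.setCongr ?_).trans (Equiv.Set.univ _))
  ext x
  simp [MulAction.mem_fixedBy]

theorem degree_mul (ν : Fin n → ℕ) (hsum : ∑ i, ν i = n) :
    Cfsg.unipotentCharacterGL n F ν 1 * ((Fintype.card F : ℂ) ^ n.choose 3) *
        ∏ i : Fin n, (qFact (Fintype.card F) (ν i + i.val) : ℂ) =
      (qFact (Fintype.card F) n : ℂ) * ∏ i : Fin n, ∏ j ∈ Ioi i,
        ((qNat (Fintype.card F) (ν j + j.val) : ℂ) - (qNat (Fintype.card F) (ν i + i.val) : ℂ)) := by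
  set q := Fintype.card F
  rw [← det_qFall q fun i : Fin n => ν i + i.val, ← det_transpose, det_apply', mul_sum, mul_sum,
    Cfsg.unipotentCharacterGL, sum_mul, sum_mul]
  refine sum_congr rfl fun κ _ => ?_
  simp only [transpose_apply, Matrix.of_apply]
  split_ifs with hv
  · have h1 := fixedPoint_one_mul (F := F) (fun i => ν i + i.val - (κ i).val) (sum_shiftComp hsum hv)
    have h2 : ∀ i : Fin n, (qFact q (ν i + i.val) : ℂ) =
        (qFact q (ν i + i.val - (κ i).val) : ℂ) * (qFall q (ν i + i.val) (κ i).val : ℂ) := fun i => by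
      rw [← Nat.cast_mul, qFact_sub_mul_qFall q _ _ (hv i)]
    simp only [h2, prod_mul_distrib]
    linear_combination (((Equiv.Perm.sign κ : ℤ) : ℂ) * (q : ℂ) ^ n.choose 3 *
      ∏ i, (qFall q (ν i + i.val) (κ i).val : ℂ)) * h1
  · obtain ⟨i, hi⟩ := not_forall.1 hv
    have h0 : ∏ i, (qFall q (ν i + i.val) (κ i).val : ℂ) = 0 :=
      prod_eq_zero (mem_univ i) (by rw [qFall_eq_zero (not_le.1 hi), Nat.cast_zero])
    simp [h0]

theorem qNat_strictMono {q : ℕ} (hq : 0 < q) : StrictMono (qNat q) :=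
  strictMono_nat_of_lt_succ fun r => by
    rw [qNat, qNat, sum_range_succ]
    exact Nat.lt_add_of_pos_right (Nat.pow_pos hq)

theorem degree_pos {ν : Fin n → ℕ} (hmono : Monotone ν) (hsum : ∑ i, ν i = n) :
    0 < (Cfsg.unipotentCharacterGL n F ν 1).re ∧ (Cfsg.unipotentCharacterGL n F ν 1).im = 0 := by
  have h := degree_mul (F := F) ν hsum
  set q := Fintype.card F
  set r : ℤ := ∑ κ : Equiv.Perm (Fin n), if ∀ i : Fin n, (κ i).val ≤ ν i + i.val then
      (Equiv.Perm.sign κ : ℤ) * (Nat.card (MulAction.fixedBy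
        (GL (Fin n) F ⧸ Cfsg.parabolicGL n F fun i => ν i + i.val - (κ i).val) (1 : GL (Fin n) F)) : ℤ)
    else 0 with hr
  have hval : Cfsg.unipotentCharacterGL n F ν 1 = (r : ℂ) := by
    rw [hr, Int.cast_sum, Cfsg.unipotentCharacterGL]
    refine sum_congr rfl fun κ _ => ?_
    split_ifs <;> simp [Cfsg.fixedPointCharacter]
  rw [hval] at h ⊢
  refine ⟨?_, by simp⟩
  have h' : (r : ℤ) * (q : ℤ) ^ n.choose 3 * ∏ i : Fin n, (qFact q (ν i + i.val) : ℤ) =
      (qFact q n : ℤ) * ∏ i : Fin n, ∏ j ∈ Ioi i,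
        ((qNat q (ν j + j.val) : ℤ) - (qNat q (ν i + i.val) : ℤ)) := by exact_mod_cast h
  have hA : 0 < (q : ℤ) ^ n.choose 3 * ∏ i : Fin n, (qFact q (ν i + i.val) : ℤ) :=
    mul_pos (pow_pos (by exact_mod_cast Fintype.card_pos) _)
      (prod_pos fun i _ => by exact_mod_cast qFact_pos _ _)
  have hB : 0 < (qFact q n : ℤ) * ∏ i : Fin n, ∏ j ∈ Ioi i,
      ((qNat q (ν j + j.val) : ℤ) - (qNat q (ν i + i.val) : ℤ)) :=
    mul_pos (by exact_mod_cast qFact_pos _ _) (prod_pos fun i _ => prod_pos fun j hj => by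
      rw [sub_pos]
      exact_mod_cast qNat_strictMono Fintype.card_pos (strictMono_shift hmono (mem_Ioi.1 hj)))
  have hr0 : 0 < r := pos_of_mul_pos_left (by rw [← mul_assoc, h']; exact hB) hA.le
  simp only [Complex.intCast_re]
  exact_mod_cast hr0

end Cfsg.Agent.Unipotent
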