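import Cfsg.Agent.Lib.Unipotent.Comp
import Cfsg.Agent.Lib.Unipotent.DoubleCoset
import Mathlib.LinearAlgebra.Matrix.Permutation
import Mathlib.LinearAlgebra.Matrix.GeneralLinearGroup.Defs

/-!
# Double cosets of two standard parabolic subgroups of the general linear group
-/

set_option autoImplicit false

namespace Cfsg.Agent.Unipotent

open Finset Matrix
open scoped MatrixGroups

variable {n : ℕ} {F : Type*} [Field F]

/-- Permutation matrices. -/
def permGL (n : ℕ) (F : Type*) [Field F] : Equiv.Perm (Fin n) →* GL (Fin n) F :=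
  (Matrix.permMatrixHom (n := Fin n) (R := F)).toHomUnits

theorem permGL_val (σ : Equiv.Perm (Fin n)) :
    (permGL n F σ : Matrix (Fin n) (Fin n) F) = σ⁻¹.permMatrix F := rfl

theorem permGL_apply (σ : Equiv.Perm (Fin n)) (i j : Fin n) :
    (permGL n F σ : Matrix (Fin n) (Fin n) F) i j = if i = σ j then 1 else 0 := by
  rw [permGL_val, Equiv.Perm.permMatrix, PEquiv.toMatrix_apply]
  simp [Equiv.toPEquiv_apply, Equiv.eq_symm_apply, Equiv.symm_apply_eq]

theorem permGL_mulVec (σ : Equiv.Perm (Fin n)) (x : Fin n → F) (k : Fin n) :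
    ((permGL n F σ : Matrix (Fin n) (Fin n) F) *ᵥ x) (σ k) = x k := by
  rw [permGL_val, permMatrix_mulVec]
  simp

theorem permGL_mem_parabolic {μ : Fin n → ℕ} {σ : Equiv.Perm (Fin n)}
    (h : σ ∈ Cfsg.youngSubgroup μ) : permGL n F σ ∈ Cfsg.parabolicGL n F μ := by
  intro i j hij
  rw [permGL_apply, if_neg]
  rintro rfl
  rw [h j] at hij
  exact lt_irrefl _ hij

theorem upper_le_parabolic (μ : Fin n → ℕ) :
    Cfsg.upperTriangularGL n F ≤ Cfsg.parabolicGL n F μ := fun _ hg i j hij =>
  hg (lt_of_not_ge fun h => not_lt.2 (compLabel_mono μ h) hij)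

/-- Vectors supported on the first blocks. -/
def headSet (μ : Fin n → ℕ) (F : Type*) [Field F] (i : ℕ) : Set (Fin n → F) :=
  {x | ∀ k, i ≤ Cfsg.compLabel μ k → x k = 0}

theorem mulVec_mem_head {μ : Fin n → ℕ} {p : GL (Fin n) F} (hp : p ∈ Cfsg.parabolicGL n F μ) {i : ℕ}
    {x : Fin n → F} (hx : x ∈ headSet μ F i) : (p : Matrix (Fin n) (Fin n) F) *ᵥ x ∈ headSet μ F i := by
  intro k hk
  simp only [Matrix.mulVec, dotProduct]
  refine sum_eq_zero fun b _ => ?_
  rcases lt_or_ge (Cfsg.compLabel μ b) i with hb | hb
  · rw [hp (lt_of_lt_of_le hb hk), zero_mul]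
  · rw [hx b hb, mul_zero]

theorem mulVec_mem_head_iff {μ : Fin n → ℕ} {p : GL (Fin n) F} (hp : p ∈ Cfsg.parabolicGL n F μ) {i : ℕ}
    (x : Fin n → F) : (p : Matrix (Fin n) (Fin n) F) *ᵥ x ∈ headSet μ F i ↔ x ∈ headSet μ F i := by
  refine ⟨fun h => ?_, mulVec_mem_head hp⟩
  have := mulVec_mem_head (inv_mem hp) h
  rwa [mulVec_mulVec, ← Units.val_mul, inv_mul_cancel, Units.val_one, one_mulVec] at this

/-- The number of vectors in a head sent into a head. -/
noncomputable def headCount (μ ν : Fin n → ℕ) (g : GL (Fin n) F) (i j : ℕ) : ℕ :=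
  Nat.card {x : Fin n → F // x ∈ headSet ν F j ∧ (g : Matrix (Fin n) (Fin n) F) *ᵥ x ∈ headSet μ F i}

theorem headCount_mul {μ ν : Fin n → ℕ} {p r : GL (Fin n) F} (hp : p ∈ Cfsg.parabolicGL n F μ)
    (hr : r ∈ Cfsg.parabolicGL n F ν) (g : GL (Fin n) F) (i j : ℕ) :
    headCount μ ν (p * g * r) i j = headCount μ ν g i j := by
  let e : (Fin n → F) ≃ (Fin n → F) :=
    { toFun := fun x => (r : Matrix (Fin n) (Fin n) F) *ᵥ x
      invFun := fun x => ((r⁻¹ : GL (Fin n) F) : Matrix (Fin n) (Fin n) F) *ᵥ x
      left_inv := fun x => by simp only [mulVec_mulVec, ← Units.val_mul, inv_mul_cancel, Units.val_one, one_mulVec]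
      right_inv := fun x => by simp only [mulVec_mulVec, ← Units.val_mul, mul_inv_cancel, Units.val_one, one_mulVec] }
  refine Nat.card_congr (e.subtypeEquiv fun x => ?_)
  simp only [e, Equiv.coe_fn_mk]
  rw [mulVec_mem_head_iff hr, Units.val_mul, Units.val_mul, ← mulVec_mulVec, ← mulVec_mulVec,
    mulVec_mem_head_iff hp]

/-- The number of positions in given heads. -/
def headMargin (μ ν : Fin n → ℕ) (σ : Equiv.Perm (Fin n)) (i j : ℕ) : ℕ :=
  (univ.filter fun k => Cfsg.compLabel ν k < j ∧ Cfsg.compLabel μ (σ k) < i).card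

theorem headCount_permGL [Fintype F] (μ ν : Fin n → ℕ) (σ : Equiv.Perm (Fin n)) (i j : ℕ) :
    headCount μ ν (permGL n F σ) i j = Fintype.card F ^ headMargin μ ν σ i j := by
  classical
  set A := univ.filter fun k => Cfsg.compLabel ν k < j ∧ Cfsg.compLabel μ (σ k) < i with hA
  have hiff : ∀ x : Fin n → F,
      (x ∈ headSet ν F j ∧ (permGL n F σ : Matrix (Fin n) (Fin n) F) *ᵥ x ∈ headSet μ F i) ↔
        ∀ k ∉ A, x k = 0 := by
    intro x
    simp only [headSet, Set.mem_setOf_eq, hA, mem_filter, mem_univ, true_and, not_and, not_lt]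
    constructor
    · rintro ⟨h1, h2⟩ k hk
      by_cases hkj : j ≤ Cfsg.compLabel ν k
      · exact h1 k hkj
      · rw [← permGL_mulVec σ x k]
        exact h2 _ (hk (lt_of_not_ge hkj))
    · intro h
      refine ⟨fun k hk => h k fun hlt => absurd hk (not_le.2 hlt), fun k hk => ?_⟩
      obtain ⟨k, rfl⟩ := σ.surjective k
      rw [permGL_mulVec]
      exact h k fun _ => hk
  rw [headCount, Nat.card_congr (Equiv.subtypeEquivRight hiff), headMargin, ← hA]
  let e : {x : Fin n → F // ∀ k ∉ A, x k = 0} ≃ (A → F) :=
    { toFun := fun x k => x.1 k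
      invFun := fun y => ⟨fun k => if hk : k ∈ A then y ⟨k, hk⟩ else 0, fun k hk => dif_neg hk⟩
      left_inv := fun x => by
        ext k
        by_cases hk : k ∈ A
        · simp [hk]
        · simp [hk, x.2 k hk]
      right_inv := fun y => by ext k; simp }
  rw [Nat.card_congr e, Nat.card_eq_fintype_card, Fintype.card_fun, Fintype.card_coe]

theorem permMargin_eq_of_headMargin {μ ν : Fin n → ℕ} (hμ : ∑ i, μ i = n) (hν : ∑ i, ν i = n)
    {σ τ : Equiv.Perm (Fin n)} (h : ∀ i j, headMargin μ ν σ i j = headMargin μ ν τ i j) :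
    permMargin hμ hν σ = permMargin hμ hν τ := by
  funext c
  have key : ∀ π : Equiv.Perm (Fin n), permMargin hμ hν π c + headMargin μ ν π (c.1.val + 1) c.2.val +
      headMargin μ ν π c.1.val (c.2.val + 1) =
      headMargin μ ν π (c.1.val + 1) (c.2.val + 1) + headMargin μ ν π c.1.val c.2.val := by
    intro π
    simp only [permMargin, headMargin, lab, Prod.ext_iff, Fin.ext_iff, card_filter, ← sum_add_distrib]
    refine sum_congr rfl fun k _ => ?_
    split_ifs <;> omega
  have h1 := key σ
  have h2 := key τ
  rw [h, h, h, h] at h1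
  omega

theorem exists_perm_upper (g : GL (Fin n) F) :
    ∃ u ∈ Cfsg.upperTriangularGL n F, ∃ v ∈ Cfsg.upperTriangularGL n F, ∃ σ : Equiv.Perm (Fin n),
      u * g * v = permGL n F σ := by
  classical
  have key : ∀ m ≤ n, ∃ u ∈ Cfsg.upperTriangularGL n F, ∃ v ∈ Cfsg.upperTriangularGL n F,
      ∃ s : Fin n → Fin n, ∀ k : Fin n, k.val < m →
        (∀ a, ((u * g * v : GL (Fin n) F) : Matrix (Fin n) (Fin n) F) a k = if a = s k then 1 else 0) ∧
        ∀ b, b ≠ k → ((u * g * v : GL (Fin n) F) : Matrix (Fin n) (Fin n) F) (s k) b = 0 := by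
    intro m
    induction m with
    | zero =>
      exact fun _ => ⟨1, one_mem _, 1, one_mem _, id, fun k hk => absurd hk (Nat.not_lt_zero _)⟩
    | succ m ih =>
      intro hm
      obtain ⟨u, hu, v, hv, s, hs⟩ := ih (by omega)
      set c : Fin n := ⟨m, by omega⟩ with hc
      set h : GL (Fin n) F := u * g * v with hh
      set A : Matrix (Fin n) (Fin n) F := (h : Matrix (Fin n) (Fin n) F) with hA
      have hne : (univ.filter fun a => A a c ≠ 0).Nonempty := by
        by_contra hne
        have h0 : ∀ a, A a c = 0 := fun a => by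
          by_contra ha
          exact hne ⟨a, by simp [ha]⟩
        have h1 := congrFun (congrFun (Units.inv_mul h) c) c
        rw [Matrix.mul_apply, Matrix.one_apply_eq] at h1
        rw [sum_eq_zero fun a _ => by rw [← hA, h0 a, mul_zero]] at h1
        exact zero_ne_one h1
      set i := (univ.filter fun a => A a c ≠ 0).max' hne with hi
      have hp : A i c ≠ 0 := (mem_filter.1 (max'_mem _ hne)).2
      have habove : ∀ a, i < a → A a c = 0 := fun a ha => by
        by_contra h0
        exact not_lt.2 (le_max' _ a (mem_filter.2 ⟨mem_univ _, h0⟩)) ha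
      have hold : ∀ k : Fin n, k.val < m → A (s k) c = 0 := fun k hk =>
        (hs k hk).2 c (by intro e; rw [← e] at hk; exact lt_irrefl _ hk)
      have hik : ∀ k : Fin n, k.val < m → i ≠ s k := fun k hk e => hp (e ▸ hold k hk)
      have hrow : ∀ k : Fin n, k.val < m → A i k = 0 := fun k hk => by
        rw [(hs k hk).1, if_neg (hik k hk)]
      let U : Matrix (Fin n) (Fin n) F := Matrix.of fun a b =>
        if b = i then (if a = i then (A i c)⁻¹ else - A a c * (A i c)⁻¹) else if a = b then 1 else 0
      have hU : U.IsUpperTriangular := fun a b (hab : b < a) => by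
        simp only [U, Matrix.of_apply]
        by_cases hb : b = i
        · subst hb
          rw [if_pos rfl, if_neg (ne_of_gt hab), habove a hab, neg_zero, zero_mul]
        · rw [if_neg hb, if_neg (ne_of_gt hab)]
      have hUdet : U.det ≠ 0 := by
        rw [det_of_isUpperTriangular hU, prod_ne_zero_iff]
        intro a _
        simp only [U, Matrix.of_apply]
        split_ifs with h1
        · exact inv_ne_zero hp
        · exact one_ne_zero
      have hUmul : ∀ a b, (U * A) a b =
          if a = i then (A i c)⁻¹ * A i b else A a b - A a c * (A i c)⁻¹ * A i b := by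
        intro a b
        rw [Matrix.mul_apply, Fintype.sum_eq_add_sum_compl i]
        simp only [U, Matrix.of_apply, if_true]
        by_cases ha : a = i
        · subst ha
          rw [if_pos rfl, if_pos rfl, sum_eq_zero fun x hx => ?_, add_zero]
          rw [mem_compl, mem_singleton] at hx
          rw [if_neg hx, if_neg (Ne.symm hx), zero_mul]
        · rw [if_neg ha, if_neg ha, sum_eq_single a]
          · simp only [if_neg ha, if_true]
            ring
          · intro x hx hxa
            rw [mem_compl, mem_singleton] at hx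
            rw [if_neg hx, if_neg (Ne.symm hxa), zero_mul]
          · intro h0; simp [ha] at h0
      let B : Matrix (Fin n) (Fin n) F := U * A
      have hBc : ∀ a, B a c = if a = i then 1 else 0 := fun a => by
        show (U * A) a c = _
        rw [hUmul]
        split_ifs
        · exact inv_mul_cancel₀ hp
        · field_simp; ring
      have hBold : ∀ k : Fin n, k.val < m → (∀ a, B a k = if a = s k then 1 else 0) ∧
          ∀ b, b ≠ k → B (s k) b = 0 := by
        intro k hk
        constructor
        · intro a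
          show (U * A) a k = _
          rw [hUmul, hrow k hk, mul_zero, mul_zero, sub_zero]
          split_ifs with h1 h2
          · exact absurd (h1.symm.trans h2) (hik k hk)
          · rfl
          · rw [(hs k hk).1, if_pos (by assumption)]
          · rw [(hs k hk).1, if_neg (by assumption)]
        · intro b hb
          show (U * A) (s k) b = _
          rw [hUmul, if_neg (Ne.symm (hik k hk)), hold k hk, zero_mul, zero_mul, sub_zero]
          exact (hs k hk).2 b hb
      have hBrow : ∀ k : Fin n, k.val < m → B i k = 0 := fun k hk => by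
        rw [(hBold k hk).1, if_neg (hik k hk)]
      let V : Matrix (Fin n) (Fin n) F := Matrix.of fun a b =>
        if a = b then 1 else if a = c ∧ c < b then - B i b else 0
      have hV : V.IsUpperTriangular := fun a b (hab : b < a) => by
        simp only [V, Matrix.of_apply]
        rw [if_neg (ne_of_gt hab), if_neg]
        rintro ⟨rfl, h⟩
        exact lt_asymm hab h
      have hVdet : V.det ≠ 0 := by
        rw [det_of_isUpperTriangular hV, prod_ne_zero_iff]
        intro a _
        simp [V]
      have hVmul : ∀ a b, (B * V) a b = B a b + if c < b then B a c * (- B i b) else 0 := by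
        intro a b
        rw [Matrix.mul_apply, Fintype.sum_eq_add_sum_compl b]
        simp only [V, Matrix.of_apply, if_true, mul_one]
        congr 1
        split_ifs with hcb
        · rw [sum_eq_single c]
          · rw [if_neg (ne_of_lt hcb), if_pos ⟨rfl, hcb⟩]
          · intro x hx hxc
            rw [mem_compl, mem_singleton] at hx
            rw [if_neg hx, if_neg (fun e => hxc e.1), mul_zero]
          · intro h0; simp [ne_of_lt hcb] at h0
        · refine sum_eq_zero fun x hx => ?_
          rw [mem_compl, mem_singleton] at hx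
          rw [if_neg hx, if_neg (fun e => hcb e.2), mul_zero]
      have hU' : GeneralLinearGroup.mkOfDetNeZero U hUdet ∈ Cfsg.upperTriangularGL n F := hU
      have hV' : GeneralLinearGroup.mkOfDetNeZero V hVdet ∈ Cfsg.upperTriangularGL n F := hV
      refine ⟨GeneralLinearGroup.mkOfDetNeZero U hUdet * u, mul_mem hU' hu,
        v * GeneralLinearGroup.mkOfDetNeZero V hVdet, mul_mem hv hV', Function.update s c i, ?_⟩
      have hval : ((GeneralLinearGroup.mkOfDetNeZero U hUdet * u * g *
          (v * GeneralLinearGroup.mkOfDetNeZero V hVdet) : GL (Fin n) F) : Matrix (Fin n) (Fin n) F) =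
          B * V := by
        rw [show GeneralLinearGroup.mkOfDetNeZero U hUdet * u * g *
          (v * GeneralLinearGroup.mkOfDetNeZero V hVdet) =
          GeneralLinearGroup.mkOfDetNeZero U hUdet * h * GeneralLinearGroup.mkOfDetNeZero V hVdet by
          rw [hh]; group]
        simp only [Units.val_mul]
        rfl
      intro k hk
      rw [hval]
      rcases Nat.lt_or_eq_of_le (Nat.le_of_lt_succ hk) with hk' | hk'
      · have hkc : k ≠ c := fun e => by rw [e] at hk'; exact lt_irrefl _ hk'
        rw [Function.update_of_ne hkc]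
        refine ⟨fun a => ?_, fun b hb => ?_⟩
        · rw [hVmul, if_neg (fun e : c < k => absurd (show m < k.val from e) (by omega)), add_zero,
            (hBold k hk').1]
        · rw [hVmul, (hBold k hk').2 b hb, zero_add]
          split_ifs
          · rw [(hBold k hk').2 c hkc.symm, zero_mul]
          · rfl
      · have hkc : k = c := Fin.ext hk'
        subst hkc
        rw [Function.update_self]
        refine ⟨fun a => ?_, fun b hb => ?_⟩
        · rw [hVmul, if_neg (lt_irrefl _), add_zero, hBc]
        · rw [hVmul, hBc, if_pos rfl]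
          rcases lt_or_gt_of_ne hb with hlt | hgt
          · rw [if_neg (lt_asymm hlt), add_zero, hBrow b hlt]
          · rw [if_pos hgt, one_mul, add_neg_cancel]
  obtain ⟨u, hu, v, hv, s, hs⟩ := key n le_rfl
  have hinj : Function.Injective s := by
    intro k k' e
    by_contra hne
    have h1 := (hs k' k'.isLt).1 (s k')
    rw [← e, if_pos rfl, (hs k k.isLt).2 k' (Ne.symm hne)] at h1
    exact zero_ne_one h1
  refine ⟨u, hu, v, hv, Equiv.ofBijective s (Finite.injective_iff_bijective.1 hinj), ?_⟩
  ext a k
  rw [permGL_apply]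
  exact (hs k k.isLt).1 a

/-- The inner product of the permutation characters on two types of flags counts the margin matrices. -/
theorem inner_parabolic [Fintype F] [DecidableEq F] {μ ν : Fin n → ℕ} (hμ : ∑ i, μ i = n)
    (hν : ∑ i, ν i = n) :
    (Nat.card (GL (Fin n) F) : ℂ)⁻¹ * ∑ g : GL (Fin n) F,
        Cfsg.fixedPointCharacter (Cfsg.parabolicGL n F μ) g *
          Cfsg.fixedPointCharacter (Cfsg.parabolicGL n F ν) g = ((marginMatrices μ ν).ncard : ℂ) := by
  classical
  rw [inner_fixedPoint _ _ (fun σ => permGL n F σ) (permMargin hμ hν)]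
  · rw [show Set.range (permMargin hμ hν) = marginMatrices μ ν from
      Set.ext fun M => ⟨fun ⟨σ, h⟩ => h ▸ permMargin_mem hμ hν σ, exists_permMargin_eq hμ hν⟩]
    rfl
  · intro g
    obtain ⟨u, hu, v, hv, σ, h⟩ := exists_perm_upper g
    exact ⟨u⁻¹, inv_mem (upper_le_parabolic μ hu), v⁻¹, inv_mem (upper_le_parabolic ν hv), σ,
      by rw [← h]; group⟩
  · intro σ τ h
    obtain ⟨p, hp, r, hr, rfl⟩ := exists_young_of_permMargin_eq hμ hν h
    exact ⟨permGL n F p, permGL_mem_parabolic hp, permGL n F r, permGL_mem_parabolic hr, by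
      simp only [map_mul]⟩
  · rintro σ τ ⟨p, hp, r, hr, h⟩
    refine permMargin_eq_of_headMargin hμ hν fun i j => ?_
    refine Nat.pow_right_injective (Fintype.one_lt_card (α := F)) ?_
    simp only
    rw [← headCount_permGL, ← headCount_permGL]
    rw [h, headCount_mul hp hr]

/-- The inner product of the permutation characters on two types of set compositions. -/
theorem inner_young {μ ν : Fin n → ℕ} (hμ : ∑ i, μ i = n) (hν : ∑ i, ν i = n) :
    (Nat.card (Equiv.Perm (Fin n)) : ℂ)⁻¹ * ∑ σ : Equiv.Perm (Fin n),
        Cfsg.fixedPointCharacter (Cfsg.youngSubgroup μ) σ *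
          Cfsg.fixedPointCharacter (Cfsg.youngSubgroup ν) σ = ((marginMatrices μ ν).ncard : ℂ) := by
  classical
  rw [inner_fixedPoint _ _ (fun σ => σ) (permMargin hμ hν)]
  · rw [show Set.range (permMargin hμ hν) = marginMatrices μ ν from
      Set.ext fun M => ⟨fun ⟨σ, h⟩ => h ▸ permMargin_mem hμ hν σ, exists_permMargin_eq hμ hν⟩]
    rfl
  · exact fun g => ⟨1, one_mem _, 1, one_mem _, g, by group⟩
  · exact fun σ τ h => exists_young_of_permMargin_eq hμ hν h
  · rintro σ τ ⟨p, hp, r, hr, h⟩
    refine permMargin_eq_of_headMargin hμ hν fun i j => ?_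
    subst h
    refine card_bij (fun k _ => r⁻¹ k) (fun k hk => ?_) (fun a _ b _ e => r⁻¹.injective e) fun k hk => ?_
    · simp only [mem_filter, mem_univ, true_and] at hk ⊢
      simp only [Equiv.Perm.mul_apply]
      rw [inv_mem hr k]
      refine ⟨hk.1, ?_⟩
      rw [hp]
      simpa using hk.2
    · simp only [mem_filter, mem_univ, true_and] at hk ⊢
      refine ⟨r k, ⟨?_, ?_⟩, by simp⟩
      · rw [hr k]; exact hk.1
      · simp only [Equiv.Perm.mul_apply] at hk
        rw [← hp (σ (r k))]
        exact hk.2

end Cfsg.Agent.Unipotent
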